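import Cfsg.Agent.Lib.M23Ext.Theta
import Cfsg.Agent.Lib.Golay.SmallCert

/-!
Evaluation of the factor set and of quadratic lifts on masks, and the certificate that four
relations of two generators cannot be lifted.
-/

set_option autoImplicit false

namespace Cfsg.Agent.Lib.M23Ext

open Cfsg Finset
open Cfsg.Agent.Lib.Golay (idx pt wordOfMask setOfMask pc24 gperm okCode permMask inM24)

/-! ### masks -/

theorem mv_gperm {c : ℕ} (hc : okCode c = true) (m : ℕ) :
    mv (gperm c) (wordOfMask m) = wordOfMask (permMask c m) := by
  apply Golay.support₂_injective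
  rw [Golay.support₂_wordOfMask, ← Golay.smul_setOfMask hc, ← Golay.support₂_wordOfMask]
  ext p
  rw [Leech.smul_eq_map, Finset.mem_map_equiv]
  unfold support₂
  rw [Finset.mem_filter, Finset.mem_filter]
  simp [mv, Equiv.Perm.inv_def]

theorem cd_wordOfMask (i : Fin 12) (m : ℕ) :
    cd i (wordOfMask m) = if m.testBit i.val then 1 else 0 := by
  show (if m.testBit (idx (pt i.val)) then (1 : ZMod 2) else 0) = _
  rw [Golay.idx_pt (by omega)]

/-- The `i`-th row of the basis. -/
def rowN (i : Fin 12) : ℕ := Golay.rows.getD i.val 0

theorem bw_eq (i : Fin 12) : bw i = wordOfMask (rowN i) := rfl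

/-- The component of the factor set on a mask. -/
def compN (i : Fin 12) (x : ℕ) : ℕ :=
  pc24 (x &&& rowN i) / 2 + ∑ j : Fin 12, if corr i j && x.testBit j.val then 1 else 0

theorem comp_wordOfMask (i : Fin 12) (x : ℕ) : comp i (wordOfMask x) = (compN i x : ZMod 2) := by
  rw [compN, comp, Nat.cast_add, Nat.cast_sum]
  congr 1
  · rw [bw_eq, half, ← Golay.card_setOfMask]
    congr 3
    ext p
    rw [Finset.mem_filter, Golay.mem_setOfMask, Nat.testBit_and, Bool.and_eq_true]
    simp only [Finset.mem_univ, true_and, wordOfMask]
    cases x.testBit (idx p) <;> cases (rowN i).testBit (idx p) <;> decide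
  · refine Finset.sum_congr rfl fun j _ => ?_
    rw [cd_wordOfMask]
    cases corr i j <;> cases x.testBit j.val <;> simp

/-- The factor set on masks. -/
def thetaN (x w : ℕ) : ℕ := ∑ i : Fin 12, if w.testBit i.val then compN i x else 0

theorem theta_wordOfMask (x w : ℕ) :
    theta (wordOfMask x) (wordOfMask w) = (thetaN x w : ZMod 2) := by
  rw [thetaN, theta, Nat.cast_sum]
  refine Finset.sum_congr rfl fun i _ => ?_
  rw [cd_wordOfMask, comp_wordOfMask]
  cases w.testBit i.val <;> simp

/-- The defect on basis masks. -/
def phiN (c : ℕ) (i j : Fin 12) : ℕ :=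
  thetaN (permMask c (rowN i)) (permMask c (rowN j)) + thetaN (rowN i) (rowN j)

theorem phi_gperm {c : ℕ} (hc : okCode c = true) (i j : Fin 12) :
    phi (gperm c) (bw i) (bw j) = (phiN c i j : ZMod 2) := by
  rw [phi, phiN, bw_eq, bw_eq, mv_gperm hc, mv_gperm hc, theta_wordOfMask, theta_wordOfMask,
    Nat.cast_add]

/-- A code together with the matrix of its defect. -/
structure Gen where
  code : ℕ
  tbl : List ℕ

/-- An entry of the matrix. -/
def Gen.bit (g : Gen) (i j : Fin 12) : Bool := (g.tbl.getD i.val 0).testBit j.val

/-- The checks of a generator: it fixes infinity, it is in the code group, the matrix is right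
and alternating. -/
def Gen.ok (g : Gen) : Bool :=
  inM24 g.code && Nat.beq (Computation.getW 5 g.code 23) 23 &&
    (List.finRange 12).all fun i => !g.bit i i && (List.finRange 12).all fun j =>
      (g.bit i j == g.bit j i) && Nat.beq (phiN g.code i j % 2) (if g.bit i j then 1 else 0)

theorem Gen.ok_spec {g : Gen} (h : g.ok = true) :
    okCode g.code = true ∧ gperm g.code ∈ M24 ∧ gperm g.code none = none ∧
      Alt (gperm g.code) ∧
      ∀ i j, phi (gperm g.code) (bw i) (bw j) = if g.bit i j then 1 else 0 := by
  simp only [Gen.ok, Bool.and_eq_true, List.all_eq_true, List.mem_finRange, true_implies,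
    Bool.not_eq_true', beq_iff_eq, Nat.beq_eq] at h
  obtain ⟨⟨h1, h2⟩, h3⟩ := h
  have hok := Golay.okCode_of_inM24 h1
  have hphi : ∀ i j, phi (gperm g.code) (bw i) (bw j) = if g.bit i j then 1 else 0 := by
    intro i j
    rw [phi_gperm hok, ← ZMod.natCast_mod, ((h3 i).2 j).2]
    cases g.bit i j <;> rfl
  refine ⟨hok, Golay.gperm_mem_M24 h1, Golay.idx_injective ?_, ⟨fun i => ?_, fun i j => ?_⟩, hphi⟩
  · rw [Golay.idx_gperm hok]
    exact h2
  · rw [hphi, (h3 i).1]
    rfl
  · rw [hphi, hphi, ((h3 i).2 j).1]

/-- The quadratic lift on a mask. -/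
def Gen.quadN (g : Gen) (m : ℕ) : Bool :=
  (List.finRange 12).foldr (fun i acc => (List.finRange 12).foldr (fun j acc' =>
    xor (decide (i < j) && g.bit i j && (m.testBit i.val && m.testBit j.val)) acc') acc) false

/-- A Boolean as an element of the field with two elements. -/
def b2 (b : Bool) : ZMod 2 := if b then 1 else 0

theorem b2_xor (a b : Bool) : b2 (xor a b) = b2 a + b2 b := by cases a <;> cases b <;> decide

theorem foldr_b2 {α : Type} (f : α → Bool) : ∀ (l : List α) (acc : Bool),
    b2 (l.foldr (fun a acc => xor (f a) acc) acc) = (l.map fun a => b2 (f a)).sum + b2 acc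
  | [], acc => by simp
  | a :: l, acc => by simp [b2_xor, foldr_b2 f l acc, add_assoc]

theorem foldr2_b2 (F : Fin 12 → Fin 12 → Bool) : ∀ l : List (Fin 12),
    b2 (l.foldr (fun i acc => (List.finRange 12).foldr (fun j acc' => xor (F i j) acc') acc) false) =
      (l.map fun i => ((List.finRange 12).map fun j => b2 (F i j)).sum).sum
  | [] => rfl
  | i :: l => by rw [List.foldr_cons, foldr_b2, foldr2_b2 F l, List.map_cons, List.sum_cons]

theorem Gen.quad_spec {g : Gen} (h : g.ok = true) (m : ℕ) :
    quad (gperm g.code) (wordOfMask m) = b2 (g.quadN m) := by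
  obtain ⟨-, -, -, -, hphi⟩ := g.ok_spec h
  rw [Gen.quadN, foldr2_b2, ← Fin.sum_univ_def, quad]
  refine Finset.sum_congr rfl fun i _ => ?_
  rw [← Fin.sum_univ_def]
  refine Finset.sum_congr rfl fun j _ => ?_
  rw [hphi, cd_wordOfMask, cd_wordOfMask]
  by_cases hij : i < j <;> cases g.bit i j <;> cases m.testBit i.val <;> cases m.testBit j.val <;>
    simp [b2, hij]

/-- The first generator. -/
def genA : Gen := ⟨956302485175575353788796878166559809,
  [912, 420, 706, 1696, 1, 10, 1156, 2639, 3, 141, 72, 128]⟩

/-- The second generator. -/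
def genB : Gen := ⟨983954895325036467219834054421809493,
  [16, 1152, 2488, 1076, 2925, 1564, 16, 6, 1044, 48, 2346, 1044]⟩

/-- A generator of the point stabiliser. -/
def genC : Gen := ⟨980061762639174120461648920039697093,
  [830, 2041, 3817, 1735, 2179, 3015, 1454, 126, 3683, 2351, 2382, 1844]⟩

/-- A generator of the point stabiliser. -/
def genD : Gen := ⟨965294562112183627393514336379478441,
  [2360, 32, 3856, 3073, 2085, 2195, 512, 32, 3589, 324, 2316, 1341]⟩

theorem genA_ok : genA.ok = true := by decide +kernel

theorem genB_ok : genB.ok = true := by decide +kernel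

theorem genC_ok : genC.ok = true := by decide +kernel

theorem genD_ok : genD.ok = true := by decide +kernel

theorem m23_gens_eq : Golay.Cert.m23_gens = [genC.code, genD.code] := by decide +kernel

/-- The generator named by a letter. -/
def letter : Bool → Gen
  | true => genA
  | false => genB

theorem letter_ok : ∀ b, (letter b).ok = true
  | true => genA_ok
  | false => genB_ok

/-- The mask moved by a word, and the accumulated values. -/
structure St where
  msk : ℕ
  base : Bool
  accA : ℕ
  accB : ℕ

/-- One step of the evaluation. -/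
def step (b : Bool) (s : St) : St :=
  ⟨permMask (letter b).code s.msk, xor ((letter b).quadN s.msk) s.base,
    if b then s.accA ^^^ s.msk else s.accA, if b then s.accB else s.accB ^^^ s.msk⟩

/-- Evaluation of a word at a mask. -/
def ev (w : List Bool) (m : ℕ) : St := w.foldr step ⟨m, false, 0, 0⟩

/-- The image of an index under a word. -/
def imgW (w : List Bool) (i : ℕ) : ℕ :=
  w.foldr (fun b k => Computation.getW 5 (letter b).code k) i

/-- Repetition of a word. -/
def rep (n : ℕ) (w : List Bool) : List Bool := (List.replicate n w).flatten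

/-- The four relations with the masks at which they are evaluated. -/
def rels : List (List Bool × ℕ) :=
  [([false, false], 3416079),
    (rep 2 [false, true, false, true, false, true], 4845570),
    (rep 7 [false, true, true], 1302533),
    (rep 5 [false, true, false, true, false, true, true, true, true], 5621792)]

theorem rels_perm : (rels.all fun r => (List.range 24).all fun i =>
    Nat.beq (imgW r.1 i) i) = true := by decide +kernel

theorem rels_code : (rels.all fun r => Golay.inCode r.2 && !r.2.testBit 23) = true := by
  decide +kernel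

theorem rels_total :
    ((rels.map fun r => (ev r.1 r.2).base).foldr xor false = true) ∧
      ((rels.map fun r => (ev r.1 r.2).accA).foldr (· ^^^ ·) 0 = 0) ∧
      ((rels.map fun r => (ev r.1 r.2).accB).foldr (· ^^^ ·) 0 = 0) := by decide +kernel

end Cfsg.Agent.Lib.M23Ext
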