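import Cfsg.Agent.Lib.M23Ext.Cert
import Cfsg.Agent.Lib.Golay.Simple

/-!
The group of lifts of the point stabiliser to quadratic functions on the code, divided by the
central function "coordinate at infinity", and the proof that it does not split over its kernel.
-/

set_option autoImplicit false

namespace Cfsg.Agent.Lib.M23Ext

open Cfsg Finset
open Cfsg.Agent.Lib.Golay (idx pt wordOfMask setOfMask pc24 gperm okCode permMask inM24)

attribute [local irreducible] phi theta quad

theorem phi_one (x y : W) : phi 1 x y = 0 := by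
  unfold phi
  rw [mv_one, mv_one, CharTwo.add_self_eq_zero]

/-- The action of the point stabiliser on the code. -/
def act (π : Spor.M23) (x : C) : C := ⟨mv π.1 x.1, mv_mem π.2.1 x.2⟩

theorem act_mul (π ρ : Spor.M23) (x : C) : act (π * ρ) x = act π (act ρ x) :=
  Subtype.ext (mv_mul _ _ _)

theorem act_one (x : C) : act 1 x = x := rfl

theorem act_add (π : Spor.M23) (x y : C) : act π (x + y) = act π x + act π y := rfl

/-- A permutation with a function whose polarisation is the defect. -/
@[ext]
structure Lift where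
  perm : Spor.M23
  q : C → ZMod 2
  spec : ∀ a b : C, q (a + b) + q a + q b = phi perm.1 a.1 b.1

instance : Mul Lift :=
  ⟨fun u v => ⟨u.perm * v.perm, fun x => v.q x + u.q (act v.perm x), fun a b => by
    rw [Subgroup.coe_mul, phi_mul, act_add]
    have h2 := u.spec (act v.perm a) (act v.perm b)
    simp only [act] at h2 ⊢
    linear_combination h2 + v.spec a b⟩⟩

instance : One Lift :=
  ⟨⟨1, 0, fun a b => by
    rw [OneMemClass.coe_one, phi_one]
    simp⟩⟩

instance : Inv Lift :=
  ⟨fun u => ⟨u.perm⁻¹, fun x => u.q (act u.perm⁻¹ x), fun a b => by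
    rw [act_add, u.spec]
    have h := phi_mul u.perm.1 (u.perm.1⁻¹) a.1 b.1
    rw [mul_inv_cancel, phi_one] at h
    exact CharTwo.add_eq_zero.mp h.symm⟩⟩

theorem Lift.mul_perm (u v : Lift) : (u * v).perm = u.perm * v.perm := rfl

theorem Lift.mul_q (u v : Lift) (x : C) : (u * v).q x = v.q x + u.q (act v.perm x) := rfl

theorem Lift.one_perm : (1 : Lift).perm = 1 := rfl

theorem Lift.one_q (x : C) : (1 : Lift).q x = 0 := rfl

instance : Group Lift where
  mul_assoc u v w := Lift.ext (mul_assoc _ _ _) (funext fun x => by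
    simp only [Lift.mul_q, Lift.mul_perm, act_mul]
    exact (add_assoc _ _ _).symm)
  one_mul u := Lift.ext (one_mul _) (funext fun x => by
    rw [Lift.mul_q, Lift.one_q, add_zero])
  mul_one u := Lift.ext (mul_one _) (funext fun x => by
    rw [Lift.mul_q, Lift.one_q, Lift.one_perm, act_one, zero_add])
  inv_mul_cancel u := Lift.ext (inv_mul_cancel _) (funext fun x => by
    show u.q x + u.q (act u.perm⁻¹ (act u.perm x)) = 0
    rw [← act_mul, inv_mul_cancel, act_one, CharTwo.add_self_eq_zero])

instance : Finite Lift :=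
  Finite.of_injective (fun u => (u.perm, u.q)) fun _ _ h =>
    Lift.ext (congrArg Prod.fst h) (congrArg Prod.snd h)

/-- The projection to the permutations. -/
def permHom : Lift →* Spor.M23 where
  toFun u := u.perm
  map_one' := rfl
  map_mul' _ _ := rfl

theorem mv_none (π : Spor.M23) (x : W) : mv π.1 x none = x none := by
  have h : (π.1 : Equiv.Perm GolayPt) none = none := π.2.2
  rw [mv, Equiv.Perm.inv_eq_iff_eq.mpr h.symm]

/-- The coordinate at infinity as a lift of the identity. -/
def z0 : Lift := ⟨1, fun x => x.1 none, fun a b => by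
  rw [OneMemClass.coe_one, phi_one, Submodule.coe_add, Pi.add_apply, add_assoc,
    CharTwo.add_self_eq_zero]⟩

theorem z0_mul_z0 : z0 * z0 = 1 :=
  Lift.ext (one_mul _) (funext fun x => CharTwo.add_self_eq_zero (x.1 none))

theorem z0_comm (u : Lift) : u * z0 = z0 * u := by
  refine Lift.ext ((mul_one _).trans (one_mul _).symm) (funext fun x => ?_)
  rw [Lift.mul_q, Lift.mul_q]
  show x.1 none + u.q (act 1 x) = u.q x + (act u.perm x).1 none
  rw [act_one, add_comm]
  exact congrArg _ (mv_none u.perm x.1).symm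

/-- The subgroup that is divided out. -/
def Z : Subgroup Lift where
  carrier := {z | z = 1 ∨ z = z0}
  one_mem' := Or.inl rfl
  mul_mem' := by
    rintro a b (rfl | rfl) (rfl | rfl)
    exacts [Or.inl (mul_one 1), Or.inr (one_mul z0), Or.inr (mul_one z0), Or.inl z0_mul_z0]
  inv_mem' := by
    rintro a (rfl | rfl)
    exacts [Or.inl inv_one, Or.inr (inv_eq_of_mul_eq_one_right z0_mul_z0)]

instance : Z.Normal :=
  ⟨fun n hn g => by
    rcases hn with rfl | rfl
    · rw [mul_one, mul_inv_cancel]; exact Or.inl rfl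
    · rw [z0_comm, mul_inv_cancel_right]; exact Or.inr rfl⟩

/-- The extension. -/
abbrev Ext : Type := Lift ⧸ Z

theorem Z_le_ker : Z ≤ permHom.ker := by
  rintro z (rfl | rfl) <;> rfl

/-- The projection of the extension. -/
def proj : Ext →* Spor.M23 := QuotientGroup.lift Z permHom Z_le_ker

theorem proj_mk (u : Lift) : proj (QuotientGroup.mk u) = u.perm := rfl

/-- The lift of a checked generator. -/
noncomputable def Gen.lift (g : Gen) (h : g.ok = true) : Lift :=
  ⟨⟨gperm g.code, (g.ok_spec h).2.1, (g.ok_spec h).2.2.1⟩, fun x => quad (gperm g.code) x.1,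
    fun a b => M23Ext.quad_spec (g.ok_spec h).2.1 (g.ok_spec h).2.2.2.1 a b⟩

theorem proj_surjective : Function.Surjective proj := by
  intro π
  have hle : Spor.M23 ≤ permHom.range.map Spor.M23.subtype := by
    refine (Golay.closure_eq_of_cert (K := Spor.M23) Golay.Cert.m23_check
      (fun s hs => ?_) ((Golay.card_stab_point none).trans Golay.Cert.m23_order.symm)).le.trans
      ((Subgroup.closure_le _).mpr ?_)
    rotate_left
    · rintro _ ⟨s, hs, rfl⟩
      rw [m23_gens_eq] at hs
      simp only [List.mem_cons, List.not_mem_nil, or_false, Set.mem_ofPred_eq] at hs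
      rcases hs with rfl | rfl
      · exact ⟨(genC.lift genC_ok).perm, ⟨genC.lift genC_ok, rfl⟩, rfl⟩
      · exact ⟨(genD.lift genD_ok).perm, ⟨genD.lift genD_ok, rfl⟩, rfl⟩
    · rw [m23_gens_eq] at hs
      simp only [List.mem_cons, List.not_mem_nil, or_false] at hs
      rcases hs with rfl | rfl
      · exact ⟨(genC.ok_spec genC_ok).2.1, (genC.ok_spec genC_ok).2.2.1⟩
      · exact ⟨(genD.ok_spec genD_ok).2.1, (genD.ok_spec genD_ok).2.2.1⟩
  obtain ⟨π', ⟨u, hu⟩, hπ'⟩ := hle π.2
  exact ⟨QuotientGroup.mk u, (proj_mk u).trans (hu.trans (Subtype.ext hπ'))⟩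

/-- The lift of the identity given by a word. -/
def lin (w : W) : Lift :=
  ⟨1, fun x => ∑ p, w p * x.1 p, fun a b => by
    rw [OneMemClass.coe_one, phi_one, Submodule.coe_add]
    simp only [Pi.add_apply, mul_add, Finset.sum_add_distrib]
    rw [add_assoc (_ + _), CharTwo.add_self_eq_zero]⟩

theorem lin_add (w v : W) : lin (w + v) = lin w * lin v := by
  refine Lift.ext (one_mul _).symm (funext fun x => ?_)
  rw [Lift.mul_q]
  show ∑ p, (w + v) p * x.1 p = ∑ p, v p * x.1 p + ∑ p, w p * (act 1 x).1 p
  rw [act_one, ← Finset.sum_add_distrib]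
  exact Finset.sum_congr rfl fun p _ => by rw [Pi.add_apply]; ring

/-- A word as an element of the kernel. -/
def linK (w : W) : ↥proj.ker := ⟨QuotientGroup.mk (lin w), MonoidHom.mem_ker.mpr rfl⟩

theorem linK_add (w v : W) : linK (w + v) = linK w * linK v :=
  Subtype.ext ((congrArg QuotientGroup.mk (lin_add w v)).trans (QuotientGroup.mk_mul Z _ _))

/-- The module map. -/
def thetaHom : W →+ Additive ↥proj.ker :=
  AddMonoidHom.mk' (fun w => Additive.ofMul (linK w)) fun w v =>
    congrArg Additive.ofMul (linK_add w v)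

theorem thetaHom_eq_zero (w : W) :
    thetaHom w = 0 ↔ (w ∈ golayCode ∨ w + Pi.single none 1 ∈ golayCode) := by
  have h0 : thetaHom w = 0 ↔ lin w ∈ Z := by
    rw [← QuotientGroup.eq_one_iff]
    show Additive.ofMul (linK w) = 0 ↔ (linK w : Ext) = 1
    rw [ofMul_eq_zero, OneMemClass.coe_eq_one]
  rw [h0]
  have hsum : ∀ x : C, ∑ p, (w + Pi.single none 1 : W) p * x.1 p = ∑ p, w p * x.1 p + x.1 none := by
    intro x
    simp only [Pi.add_apply, add_mul, Finset.sum_add_distrib]
    refine congrArg _ ?_
    rw [Finset.sum_eq_single none (fun p _ hp => by rw [Pi.single_eq_of_ne hp, zero_mul])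
      (fun h => absurd (Finset.mem_univ _) h), Pi.single_eq_same, one_mul]
  constructor
  · rintro (h | h)
    · left
      exact Golay.mem_of_orth fun v hv => congrFun (congrArg Lift.q h) ⟨v, hv⟩
    · right
      refine Golay.mem_of_orth fun v hv => ?_
      rw [hsum ⟨v, hv⟩]
      exact CharTwo.add_eq_zero.mpr (congrFun (congrArg Lift.q h) ⟨v, hv⟩)
  · rintro (h | h)
    · exact Or.inl (Lift.ext rfl (funext fun x => Golay.self_orth h x.2))
    · refine Or.inr (Lift.ext rfl (funext fun x => ?_))
      exact CharTwo.add_eq_zero.mp ((hsum x).symm.trans (Golay.self_orth h x.2))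

theorem lin_q (w : W) (x : C) : (lin w).q x = ∑ p, w p * x.1 p := rfl

theorem sum_single_mul (c : Fin 12 → ZMod 2) (x : W) :
    ∑ p, (∑ i : Fin 12, c i • Pi.single (pt i.val) 1 : W) p * x p = ∑ i, c i * cd i x := by
  simp only [Finset.sum_apply, Pi.smul_apply, Finset.sum_mul, smul_eq_mul]
  rw [Finset.sum_comm]
  refine Finset.sum_congr rfl fun i _ => ?_
  rw [Finset.sum_eq_single (pt i.val) (fun p _ hp => by
    rw [Pi.single_eq_of_ne hp, mul_zero, zero_mul]) (fun h => absurd (Finset.mem_univ _) h),
    Pi.single_eq_same, mul_one, cd]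

theorem eq_sum_cdC (x : C) : x = ∑ i, cd i x.1 • bwC i := by
  apply Subtype.ext
  rw [Submodule.coe_sum]
  simp only [Submodule.coe_smul]
  exact eq_sum_cd x.2

theorem exists_lin {u : Lift} (hu : u.perm = 1) : ∃ w, lin w = u := by
  have hadd : ∀ a b : C, u.q (a + b) = u.q a + u.q b := by
    intro a b
    have h := u.spec a b
    rw [hu, OneMemClass.coe_one, phi_one, add_assoc] at h
    exact CharTwo.add_eq_zero.mp h
  let qh : C →+ ZMod 2 := AddMonoidHom.mk' u.q hadd
  refine ⟨∑ i : Fin 12, u.q (bwC i) • Pi.single (pt i.val) 1, Lift.ext hu.symm (funext fun x => ?_)⟩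
  have hsmul : ∀ (a : ZMod 2) (y : C), qh (a • y) = a * qh y := by
    intro a y
    rcases Leech.zmod2_cases a with h | h <;> simp [h]
  have h1 : u.q x = ∑ i, cd i x.1 * u.q (bwC i) := by
    have h2 : qh x = qh (∑ i, cd i x.1 • bwC i) := congrArg qh (eq_sum_cdC x)
    rw [map_sum] at h2
    simp only [hsmul] at h2
    exact h2
  rw [lin_q, sum_single_mul, h1]
  exact Finset.sum_congr rfl fun i _ => mul_comm _ _

theorem thetaHom_surjective : Function.Surjective thetaHom := by
  intro n
  obtain ⟨⟨e, he⟩, rfl⟩ := Additive.ofMul.surjective n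
  obtain ⟨u, rfl⟩ := QuotientGroup.mk_surjective e
  obtain ⟨w, rfl⟩ := exists_lin (u := u) (MonoidHom.mem_ker.mp he)
  exact ⟨w, congrArg Additive.ofMul (Subtype.ext rfl)⟩

theorem lin_comm (w : W) (u : Lift) :
    lin (w ∘ ⇑((u.perm : Equiv.Perm GolayPt)⁻¹)) * u = u * lin w := by
  refine Lift.ext ((one_mul _).trans (mul_one _).symm) (funext fun x => ?_)
  rw [Lift.mul_q, Lift.mul_q]
  show u.q x + ∑ p, w ((u.perm : Equiv.Perm GolayPt)⁻¹ p) * x.1 ((u.perm : Equiv.Perm GolayPt)⁻¹ p) =
    ∑ p, w p * x.1 p + u.q (act 1 x)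
  rw [act_one, Equiv.sum_comp _ fun p => w p * x.1 p, add_comm]

theorem no_complement (H : Subgroup Ext) (hH : H ⊓ proj.ker = ⊥) : H ⊔ proj.ker ≠ ⊤ := by
  intro htop
  have hex : ∀ b, ∃ u : Lift, (QuotientGroup.mk u : Ext) ∈ H ∧
      (u.perm : Equiv.Perm GolayPt) = gperm (letter b).code := by
    intro b
    have hm : (QuotientGroup.mk ((letter b).lift (letter_ok b)) : Ext) ∈ H ⊔ proj.ker := by
      rw [htop]; exact Subgroup.mem_top _
    obtain ⟨h, hh, n, hn, he⟩ := Subgroup.mem_sup_of_normal_right.mp hm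
    obtain ⟨u, rfl⟩ := QuotientGroup.mk_surjective h
    refine ⟨u, hh, ?_⟩
    have h2 := congrArg proj he
    rw [map_mul, MonoidHom.mem_ker.mp hn, mul_one, proj_mk, proj_mk] at h2
    exact congrArg Subtype.val h2
  choose L hLH hLp using hex
  classical
  let qW : Lift → W → ZMod 2 := fun u x => if h : x ∈ golayCode then u.q ⟨x, h⟩ else 0
  let ell : Bool → W → ZMod 2 := fun b x => qW (L b) x + quad (gperm (letter b).code) x
  have hqW : ∀ (u : Lift) {x : W} (hx : x ∈ golayCode), qW u x = u.q ⟨x, hx⟩ :=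
    fun u x hx => dif_pos hx
  have ell_add : ∀ b {x y : W}, x ∈ golayCode → y ∈ golayCode →
      ell b (x + y) = ell b x + ell b y := by
    intro b x y hx hy
    have h1 := (L b).spec ⟨x, hx⟩ ⟨y, hy⟩
    have h2 := M23Ext.quad_spec ((letter b).ok_spec (letter_ok b)).2.1
      ((letter b).ok_spec (letter_ok b)).2.2.2.1 ⟨x, hx⟩ ⟨y, hy⟩
    rw [hLp, ← hqW, ← hqW, ← hqW] at h1
    simp only [Submodule.coe_add] at h1 h2
    simp only [ell]
    rw [← CharTwo.add_eq_zero]
    linear_combination h1 + h2 + CharTwo.add_self_eq_zero (phi (gperm (letter b).code) x y)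
  have ell_zero : ∀ b, ell b (wordOfMask 0) = 0 := by
    intro b
    have h := ell_add b golayCode.zero_mem golayCode.zero_mem
    rw [add_zero, left_eq_add] at h
    rw [Golay.wordOfMask_zero]
    exact h
  let prod : List Bool → Lift := fun w => (w.map L).prod
  have himg : ∀ w p, idx ((prod w).perm.1 p) = imgW w (idx p) := by
    intro w
    induction w with
    | nil => intro p; rfl
    | cons b w ih =>
      intro p
      show idx (((L b).perm * (prod w).perm : Spor.M23).1 p) =
        Computation.getW 5 (letter b).code (imgW w (idx p))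
      rw [Subgroup.coe_mul, Equiv.Perm.mul_apply, hLp,
        Golay.idx_gperm ((letter b).ok_spec (letter_ok b)).1, ih]
  have hprodH : ∀ w, (QuotientGroup.mk (prod w) : Ext) ∈ H := by
    intro w
    induction w with
    | nil => exact H.one_mem
    | cons b w ih => exact H.mul_mem (hLH b) ih
  have hev : ∀ m, wordOfMask m ∈ golayCode → ∀ w,
      mv (prod w).perm.1 (wordOfMask m) = wordOfMask (ev w m).msk ∧
      wordOfMask (ev w m).accA ∈ golayCode ∧ wordOfMask (ev w m).accB ∈ golayCode ∧
      qW (prod w) (wordOfMask m) = b2 (ev w m).base + ell true (wordOfMask (ev w m).accA) +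
        ell false (wordOfMask (ev w m).accB) := by
    intro m hm w
    induction w with
    | nil =>
      refine ⟨rfl, by rw [show (ev [] m).accA = 0 from rfl, Golay.wordOfMask_zero]; exact golayCode.zero_mem,
        by rw [show (ev [] m).accB = 0 from rfl, Golay.wordOfMask_zero]; exact golayCode.zero_mem, ?_⟩
      rw [hqW _ hm, show (ev [] m).accA = 0 from rfl, show (ev [] m).accB = 0 from rfl, ell_zero,
        ell_zero]
      rfl
    | cons b w ih =>
      obtain ⟨hmv, hA, hB, hq⟩ := ih
      have hy : wordOfMask (ev w m).msk ∈ golayCode := hmv ▸ mv_mem (prod w).perm.2.1 hm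
      have hmsk : mv (prod (b :: w)).perm.1 (wordOfMask m) = wordOfMask (ev (b :: w) m).msk := by
        show mv ((L b).perm * (prod w).perm : Spor.M23).1 _ = _
        rw [Subgroup.coe_mul, mv_mul, hmv, hLp, mv_gperm ((letter b).ok_spec (letter_ok b)).1]
        rfl
      have hq' : qW (prod (b :: w)) (wordOfMask m) = qW (prod w) (wordOfMask m) +
          (ell b (wordOfMask (ev w m).msk) + b2 ((letter b).quadN (ev w m).msk)) := by
        rw [hqW _ hm, hqW _ hm, show prod (b :: w) = L b * prod w from rfl, Lift.mul_q]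
        congr 1
        have hact : act (prod w).perm ⟨wordOfMask m, hm⟩ = ⟨_, hy⟩ := Subtype.ext hmv
        rw [hact, ← hqW]
        simp only [ell]
        rw [Gen.quad_spec (letter_ok b), add_assoc, CharTwo.add_self_eq_zero, add_zero]
      refine ⟨hmsk, ?_⟩
      rw [hq', hq]
      show wordOfMask (if b then (ev w m).accA ^^^ (ev w m).msk else (ev w m).accA) ∈ golayCode ∧
        wordOfMask (if b then (ev w m).accB else (ev w m).accB ^^^ (ev w m).msk) ∈ golayCode ∧ _ =
        b2 (xor ((letter b).quadN (ev w m).msk) (ev w m).base) +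
          ell true (wordOfMask (if b then (ev w m).accA ^^^ (ev w m).msk else (ev w m).accA)) +
          ell false (wordOfMask (if b then (ev w m).accB else (ev w m).accB ^^^ (ev w m).msk))
      cases b
      · simp only [Bool.false_eq_true, if_false, Golay.wordOfMask_xor, b2_xor]
        exact ⟨hA, golayCode.add_mem hB hy, by rw [ell_add _ hB hy]; ring⟩
      · simp only [if_true, Golay.wordOfMask_xor, b2_xor]
        exact ⟨golayCode.add_mem hA hy, hB, by rw [ell_add _ hA hy]; ring⟩
  have hrel : ∀ r ∈ rels, wordOfMask (ev r.1 r.2).accA ∈ golayCode ∧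
      wordOfMask (ev r.1 r.2).accB ∈ golayCode ∧
      b2 (ev r.1 r.2).base + ell true (wordOfMask (ev r.1 r.2).accA) +
        ell false (wordOfMask (ev r.1 r.2).accB) = 0 := by
    intro r hr
    have hc := List.all_eq_true.mp rels_code r hr
    simp only [Bool.and_eq_true, Bool.not_eq_true'] at hc
    have hm := Golay.wordOfMask_mem hc.1
    obtain ⟨-, hA, hB, hq⟩ := hev r.2 hm r.1
    refine ⟨hA, hB, hq ▸ ?_⟩
    have hperm : (prod r.1).perm = 1 := by
      refine Subtype.ext (Equiv.ext fun p => Golay.idx_injective ?_)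
      rw [himg]
      exact Nat.eq_of_beq_eq_true (List.all_eq_true.mp (List.all_eq_true.mp rels_perm r hr) _
        (List.mem_range.mpr (Golay.idx_lt p)))
    have hone : (QuotientGroup.mk (prod r.1) : Ext) = 1 := by
      have hk : (QuotientGroup.mk (prod r.1) : Ext) ∈ H ⊓ proj.ker :=
        ⟨hprodH r.1, (proj_mk _).trans hperm⟩
      rwa [hH, Subgroup.mem_bot] at hk
    rw [hqW _ hm]
    rcases (QuotientGroup.eq_one_iff _).mp hone with h | h <;> rw [h]
    · rfl
    · show (if r.2.testBit 23 then (1 : ZMod 2) else 0) = 0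
      rw [hc.2]
      rfl
  have hfold : ∀ l : List (List Bool × ℕ), (∀ r ∈ l, r ∈ rels) →
      wordOfMask ((l.map fun r => (ev r.1 r.2).accA).foldr (· ^^^ ·) 0) ∈ golayCode ∧
      wordOfMask ((l.map fun r => (ev r.1 r.2).accB).foldr (· ^^^ ·) 0) ∈ golayCode ∧
      b2 ((l.map fun r => (ev r.1 r.2).base).foldr xor false) +
        ell true (wordOfMask ((l.map fun r => (ev r.1 r.2).accA).foldr (· ^^^ ·) 0)) +
        ell false (wordOfMask ((l.map fun r => (ev r.1 r.2).accB).foldr (· ^^^ ·) 0)) = 0 := by
    intro l hl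
    induction l with
    | nil =>
      simp only [List.map_nil, List.foldr_nil, ell_zero]
      rw [Golay.wordOfMask_zero]
      exact ⟨golayCode.zero_mem, golayCode.zero_mem, rfl⟩
    | cons r l ih =>
      obtain ⟨hA, hB, hs⟩ := ih fun s hs => hl s (List.mem_cons_of_mem _ hs)
      obtain ⟨ha, hb, hr⟩ := hrel r (hl r List.mem_cons_self)
      simp only [List.map_cons, List.foldr_cons, Golay.wordOfMask_xor, b2_xor]
      refine ⟨golayCode.add_mem ha hA, golayCode.add_mem hb hB, ?_⟩
      rw [ell_add _ ha hA, ell_add _ hb hB]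
      linear_combination hs + hr
  obtain ⟨h1, h2, h3⟩ := rels_total
  have h := (hfold rels fun _ hr => hr).2.2
  rw [h1, h2, h3, ell_zero, ell_zero] at h
  revert h
  decide

end Cfsg.Agent.Lib.M23Ext
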