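import Cfsg.Agent.Lib.Golay.Perm
import Cfsg.Agent.Lib.Leech.CodeSets

/-!
A factor set on the length-24 code whose associator is the parity of triple intersections, and its
defect under a permutation, which is a bilinear form on the code.
-/

set_option autoImplicit false

namespace Cfsg.Agent.Lib.M23Ext

open Cfsg Finset
open Cfsg.Agent.Lib.Golay (idx pt wordOfMask setOfMask pc24)

/-- Binary words on the points. -/
abbrev W : Type := GolayPt → ZMod 2

/-- The translate of a word by a permutation. -/
def mv (π : Equiv.Perm GolayPt) (x : W) : W := fun p => x (π⁻¹ p)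

theorem mv_mul (π ρ : Equiv.Perm GolayPt) (x : W) : mv (π * ρ) x = mv π (mv ρ x) := by
  funext p
  simp [mv, mul_inv_rev]

theorem mv_one (x : W) : mv 1 x = x := rfl

theorem mv_add (π : Equiv.Perm GolayPt) (x y : W) : mv π (x + y) = mv π x + mv π y := rfl

theorem mv_mem {π : Equiv.Perm GolayPt} (hπ : π ∈ M24) {x : W} (hx : x ∈ golayCode) :
    mv π x ∈ golayCode := by
  have h : Leech.IsCode (support₂ x) := by
    rw [Leech.isCode_iff, Leech.ind_support₂]; exact hx
  have h2 := Leech.isCode_iff.mp (h.map hπ)
  convert h2 using 1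
  funext p
  simp only [mv, Leech.ind, Finset.mem_map_equiv, support₂, Finset.mem_filter, Finset.mem_univ,
    true_and, Equiv.Perm.inv_def]
  generalize x (π.symm p) = a
  revert a
  decide

/-- Parity of a triple intersection. -/
def tri (x y w : W) : ZMod 2 := ∑ p, x p * y p * w p

/-- Half the size of an intersection, modulo two. -/
def half (x w : W) : ZMod 2 :=
  (((univ.filter fun p => x p = 1 ∧ w p = 1).card / 2 : ℕ) : ZMod 2)

theorem card_inter_cast (x w : W) :
    ((univ.filter fun p => x p = 1 ∧ w p = 1).card : ZMod 2) = ∑ p, x p * w p := by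
  rw [Finset.card_filter, Nat.cast_sum]
  refine Finset.sum_congr rfl fun p _ => ?_
  generalize x p = a
  generalize w p = b
  revert a b
  decide

theorem half_add {x y w : W} (hx : x ∈ golayCode) (hy : y ∈ golayCode) (hw : w ∈ golayCode) :
    half (x + y) w = half x w + half y w + tri x y w := by
  set a := (univ.filter fun p => x p = 1 ∧ w p = 1).card with ha
  set b := (univ.filter fun p => y p = 1 ∧ w p = 1).card with hb
  set c := (univ.filter fun p => x p = 1 ∧ y p = 1 ∧ w p = 1).card with hc
  set d := (univ.filter fun p => (x + y) p = 1 ∧ w p = 1).card with hd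
  have hsum : d + 2 * c = a + b := by
    rw [ha, hb, hc, hd]
    simp only [Finset.card_filter, Finset.mul_sum, ← Finset.sum_add_distrib]
    refine Finset.sum_congr rfl fun p _ => ?_
    simp only [Pi.add_apply]
    have h3 : ∀ u v t : ZMod 2, ((if u + v = 1 ∧ t = 1 then 1 else 0 : ℕ) +
        2 * if u = 1 ∧ v = 1 ∧ t = 1 then 1 else 0) =
        (if u = 1 ∧ t = 1 then 1 else 0) + if v = 1 ∧ t = 1 then 1 else 0 := by decide
    convert h3 (x p) (y p) (w p) using 4
  have hae : a % 2 = 0 := by
    have := card_inter_cast x w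
    rw [Golay.self_orth hx hw, ← ha, ZMod.natCast_eq_zero_iff_even, Nat.even_iff] at this
    exact this
  have hbe : b % 2 = 0 := by
    have := card_inter_cast y w
    rw [Golay.self_orth hy hw, ← hb, ZMod.natCast_eq_zero_iff_even, Nat.even_iff] at this
    exact this
  have htri : tri x y w = (c : ZMod 2) := by
    rw [hc, Finset.card_filter, Nat.cast_sum, tri]
    refine Finset.sum_congr rfl fun p _ => ?_
    generalize x p = u
    generalize y p = v
    generalize w p = t
    revert u v t
    decide
  have key : a / 2 + b / 2 = d / 2 + c := by omega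
  have key' : (((a / 2 : ℕ) : ZMod 2)) + ((b / 2 : ℕ) : ZMod 2) =
      ((d / 2 : ℕ) : ZMod 2) + (c : ZMod 2) := by
    exact_mod_cast congrArg (fun n : ℕ => (n : ZMod 2)) key
  show ((d / 2 : ℕ) : ZMod 2) = ((a / 2 : ℕ) : ZMod 2) + ((b / 2 : ℕ) : ZMod 2) + tri x y w
  rw [htri, key', add_assoc, CharTwo.add_self_eq_zero, add_zero]

/-- The rows of the systematic basis, as words. -/
def bw (i : Fin 12) : W := wordOfMask (Golay.rows.getD i.val 0)

theorem bw_mem (i : Fin 12) : bw i ∈ golayCode := by
  refine Golay.rows_mem _ ?_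
  revert i
  decide

/-- The coordinate of a code word at the `i`-th pivot. -/
def cd (i : Fin 12) (x : W) : ZMod 2 := x (pt i.val)

theorem cd_add (i : Fin 12) (x y : W) : cd i (x + y) = cd i x + cd i y := rfl

theorem cd_bw : ∀ i j : Fin 12, cd i (bw j) = if i = j then 1 else 0 := by decide +kernel

theorem eq_sum_cd {x : W} (hx : x ∈ golayCode) : x = ∑ i, cd i x • bw i := by
  obtain ⟨k, hk, rfl⟩ := Golay.mem_golayCode_iff.mp hx
  have hrec : ∀ (rs : List ℕ) (k : ℕ), wordOfMask (Golay.combine rs k) =
      ∑ i : Fin rs.length, (if k.testBit i.val then (1 : ZMod 2) else 0) • wordOfMask (rs.get i) := by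
    intro rs
    induction rs with
    | nil => intro k; simp [Golay.combine, Golay.wordOfMask_zero]
    | cons r rs ih =>
      intro k
      rw [Golay.combine, Golay.wordOfMask_xor, ih]
      erw [Fin.sum_univ_succ]
      congr 1
      · simp only [Fin.val_zero, List.get_eq_getElem, List.getElem_cons_zero, Nat.testBit_zero]
        rcases Nat.mod_two_eq_zero_or_one k with h | h <;> simp [h, Golay.wordOfMask_zero]
      · simp [Nat.testBit_succ]
  have hlow : ∀ i : Fin 12, cd i (wordOfMask (Golay.enc k)) =
      if k.testBit i.val then 1 else 0 := by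
    intro i
    show (if (Golay.enc k).testBit (idx (pt i.val)) then (1 : ZMod 2) else 0) = _
    have h : (Golay.enc k).testBit i.val = k.testBit i.val := by
      conv_rhs => rw [← Golay.enc_mod hk, show (4096 : ℕ) = 2 ^ 12 from rfl, Nat.testBit_mod_two_pow]
      simp [i.isLt]
    rw [Golay.idx_pt (by omega), h]
  simp only [hlow]
  rw [Golay.enc_eq hk, hrec]
  exact Finset.sum_congr rfl fun i _ => by
    simp only [bw]
    rw [List.getD_eq_getElem _ _ i.isLt]
    rfl

/-- The pairs with a linear correction. -/
def corr (i j : Fin 12) : Bool :=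
  [(5, 1), (6, 4), (8, 0), (9, 2), (10, 3), (11, 7)].any fun ij => ij == (i.val, j.val)

/-- The `i`-th component of the factor set. -/
def comp (i : Fin 12) (x : W) : ZMod 2 :=
  half x (bw i) + ∑ j, if corr i j then cd j x else 0

theorem comp_add (i : Fin 12) {x y : W} (hx : x ∈ golayCode) (hy : y ∈ golayCode) :
    comp i (x + y) = comp i x + comp i y + tri x y (bw i) := by
  have h : (∑ j, if corr i j then cd j (x + y) else 0) =
      (∑ j, if corr i j then cd j x else 0) + ∑ j, if corr i j then cd j y else 0 := by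
    rw [← Finset.sum_add_distrib]
    exact Finset.sum_congr rfl fun j _ => by split_ifs <;> simp [cd_add]
  rw [comp, comp, comp, half_add hx hy (bw_mem i), h]
  ring

/-- The factor set. -/
def theta (x w : W) : ZMod 2 := ∑ i, cd i w * comp i x

theorem theta_add_right (x w v : W) : theta x (w + v) = theta x w + theta x v := by
  simp [theta, cd_add, add_mul, Finset.sum_add_distrib]

theorem theta_add_left {x y w : W} (hx : x ∈ golayCode) (hy : y ∈ golayCode)
    (hw : w ∈ golayCode) : theta (x + y) w = theta x w + theta y w + tri x y w := by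
  have h : tri x y w = ∑ i, cd i w * tri x y (bw i) := by
    conv_lhs => rw [eq_sum_cd hw]
    simp only [tri, Finset.mul_sum, Finset.sum_apply, Pi.smul_apply, smul_eq_mul]
    rw [Finset.sum_comm]
    exact Finset.sum_congr rfl fun i _ => Finset.sum_congr rfl fun p _ => by ring
  rw [h]
  simp only [theta, ← Finset.sum_add_distrib]
  exact Finset.sum_congr rfl fun i _ => by rw [comp_add i hx hy]; ring

/-- The defect of a permutation. -/
def phi (π : Equiv.Perm GolayPt) (x y : W) : ZMod 2 := theta (mv π x) (mv π y) + theta x y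

theorem tri_mv (π : Equiv.Perm GolayPt) (x y w : W) : tri (mv π x) (mv π y) (mv π w) = tri x y w :=
  Equiv.sum_comp π⁻¹ fun p => x p * y p * w p

theorem phi_add_right (π : Equiv.Perm GolayPt) (x y z : W) :
    phi π x (y + z) = phi π x y + phi π x z := by
  rw [phi, phi, phi, mv_add, theta_add_right, theta_add_right]
  ring

theorem phi_add_left {π : Equiv.Perm GolayPt} (hπ : π ∈ M24) {x y w : W} (hx : x ∈ golayCode)
    (hy : y ∈ golayCode) (hw : w ∈ golayCode) : phi π (x + y) w = phi π x w + phi π y w := by
  rw [phi, phi, phi, mv_add, theta_add_left (mv_mem hπ hx) (mv_mem hπ hy) (mv_mem hπ hw),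
    theta_add_left hx hy hw, tri_mv]
  have h := CharTwo.add_self_eq_zero (tri x y w)
  linear_combination h

theorem phi_mul (π ρ : Equiv.Perm GolayPt) (x y : W) :
    phi (π * ρ) x y = phi π (mv ρ x) (mv ρ y) + phi ρ x y := by
  rw [phi, phi, phi, mv_mul, mv_mul]
  have h := CharTwo.add_self_eq_zero (theta (mv ρ x) (mv ρ y))
  linear_combination -h

/-! ### the code as a group of words -/

/-- Code words. -/
abbrev C : Type := golayCode

/-- The permuted code word. -/
def mvC (π : M24) (x : C) : C := ⟨mv π.1 x.1, mv_mem π.2 x.2⟩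

theorem mvC_mul (π ρ : M24) (x : C) : mvC (π * ρ) x = mvC π (mvC ρ x) :=
  Subtype.ext (mv_mul _ _ _)

theorem mvC_one (x : C) : mvC 1 x = x := rfl

theorem mvC_add (π : M24) (x y : C) : mvC π (x + y) = mvC π x + mvC π y := rfl

/-- A basis word as a code word. -/
def bwC (i : Fin 12) : C := ⟨bw i, bw_mem i⟩

theorem phi_zero_right (π : Equiv.Perm GolayPt) (x : W) : phi π x 0 = 0 := by
  have h := phi_add_right π x 0 0
  rw [add_zero, CharTwo.add_self_eq_zero] at h
  exact h

theorem phi_zero_left {π : Equiv.Perm GolayPt} (hπ : π ∈ M24) {y : W} (hy : y ∈ golayCode) :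
    phi π 0 y = 0 := by
  have h := phi_add_left hπ golayCode.zero_mem golayCode.zero_mem hy
  rw [add_zero, CharTwo.add_self_eq_zero] at h
  exact h

attribute [local irreducible] phi

theorem phi_eq_sum {π : Equiv.Perm GolayPt} (hπ : π ∈ M24) (x y : C) :
    phi π x.1 y.1 = ∑ i, ∑ j, cd i x.1 * cd j y.1 * phi π (bw i) (bw j) := by
  classical
  have hright : ∀ (u : W) (s : Finset (Fin 12)) (f : Fin 12 → ZMod 2),
      phi π u (∑ j ∈ s, f j • bw j) = ∑ j ∈ s, f j * phi π u (bw j) := by
    intro u s f
    induction s using Finset.induction with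
    | empty => rw [Finset.sum_empty, Finset.sum_empty, phi_zero_right]
    | insert a s ha ih =>
      rw [Finset.sum_insert ha, Finset.sum_insert ha, phi_add_right, ih]
      congr 1
      rcases Leech.zmod2_cases (f a) with h | h
      · rw [h, zero_smul, zero_mul, phi_zero_right]
      · rw [h, one_smul, one_mul]
  have hleft : ∀ (s : Finset (Fin 12)) (f : Fin 12 → ZMod 2),
      phi π (∑ i ∈ s, f i • bw i) y.1 = ∑ i ∈ s, f i * phi π (bw i) y.1 := by
    intro s f
    have h0 : phi π 0 y.1 = 0 := phi_zero_left hπ y.2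
    induction s using Finset.induction with
    | empty => rw [Finset.sum_empty, Finset.sum_empty, h0]
    | insert a s ha ih =>
      have hs : (∑ i ∈ s, f i • bw i) ∈ golayCode :=
        golayCode.sum_mem fun i _ => golayCode.smul_mem _ (bw_mem i)
      rw [Finset.sum_insert ha, Finset.sum_insert ha,
        phi_add_left hπ (golayCode.smul_mem _ (bw_mem a)) hs y.2, ih]
      congr 1
      rcases Leech.zmod2_cases (f a) with h | h
      · rw [h, zero_smul, zero_mul, h0]
      · rw [h, one_smul, one_mul]
  conv_lhs => rw [eq_sum_cd x.2]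
  rw [hleft]
  refine Finset.sum_congr rfl fun i _ => ?_
  conv_lhs => rw [eq_sum_cd y.2]
  rw [hright, Finset.mul_sum]
  exact Finset.sum_congr rfl fun j _ => by ring

/-- The quadratic lift attached to a permutation. -/
def quad (π : Equiv.Perm GolayPt) (x : W) : ZMod 2 :=
  ∑ i, ∑ j, if i < j then phi π (bw i) (bw j) * (cd i x * cd j x) else 0

/-- The matrix of the defect is alternating. -/
def Alt (π : Equiv.Perm GolayPt) : Prop :=
  (∀ i, phi π (bw i) (bw i) = 0) ∧ ∀ i j, phi π (bw i) (bw j) = phi π (bw j) (bw i)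

theorem quad_spec {π : Equiv.Perm GolayPt} (hπ : π ∈ M24) (h : Alt π) (x y : C) :
    quad π (x + y : C).1 + quad π x.1 + quad π y.1 = phi π x.1 y.1 := by
  classical
  let f : Fin 12 → Fin 12 → ZMod 2 := fun i j => cd i x.1 * cd j y.1 * phi π (bw i) (bw j)
  let L : Fin 12 → Fin 12 → ZMod 2 := fun i j => if i < j then f i j else 0
  let U : Fin 12 → Fin 12 → ZMod 2 := fun i j => if j < i then f i j else 0
  have hsplit : ∀ i j, f i j = L i j + U i j := by
    intro i j
    rcases lt_trichotomy i j with h1 | h1 | h1
    · simp [L, U, h1, h1.not_gt]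
    · subst h1; simp [L, U, f, h.1]
    · simp [L, U, h1, h1.not_gt]
  have hLU : ∑ i, ∑ j, U i j = ∑ i, ∑ j, U j i := Finset.sum_comm
  rw [phi_eq_sum hπ, show (∑ i, ∑ j, f i j) = ∑ i, ∑ j, (L i j + U j i) by
    simp only [hsplit, Finset.sum_add_distrib, hLU]]
  simp only [quad, ← Finset.sum_add_distrib]
  refine Finset.sum_congr rfl fun i _ => Finset.sum_congr rfl fun j _ => ?_
  simp only [L, U, f, Submodule.coe_add, cd_add]
  split_ifs with h1
  · rw [h.2 j i]
    generalize cd i x.1 = a; generalize cd j x.1 = b; generalize cd i y.1 = c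
    generalize cd j y.1 = d; generalize phi π (bw i) (bw j) = e
    revert a b c d e
    decide
  · simp

end Cfsg.Agent.Lib.M23Ext
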